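import Mathlib

/-! Unramified schemes over a field are disjoint unions of spectra of finite separable extensions. -/

set_option autoImplicit false
universe u

open CategoryTheory Limits AlgebraicGeometry TopologicalSpace

namespace UnramFieldLib

variable (k : Type u) [Field k] {X : Scheme.{u}} (f : X ⟶ Spec (CommRingCat.of k))

theorem of_iso (ι : Type u) (K : ι → Type u) [∀ i, Field (K i)] [∀ i, Algebra k (K i)]
    (hK : ∀ i, FiniteDimensional k (K i) ∧ Algebra.IsSeparable k (K i)) (e : X ≅ ∐ (fun i => Spec (CommRingCat.of (K i))))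
    (he : e.hom ≫ Limits.Sigma.desc (fun i => Spec.map (CommRingCat.ofHom (algebraMap k (K i)))) = f) :
    FormallyUnramified f ∧ LocallyOfFiniteType f := by
  have h1 : ∀ i, FormallyUnramified (Spec.map (CommRingCat.ofHom (algebraMap k (K i)))) := fun i => by
    haveI := (hK i).1; haveI := (hK i).2
    haveI : Algebra.FormallyUnramified k (K i) := Algebra.FormallyUnramified.of_isSeparable k (K i)
    rw [HasRingHomProperty.Spec_iff (P := @FormallyUnramified), CommRingCat.hom_ofHom, RingHom.formallyUnramified_algebraMap]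
    infer_instance
  have h2 : ∀ i, LocallyOfFiniteType (Spec.map (CommRingCat.ofHom (algebraMap k (K i)))) := fun i => by
    haveI := (hK i).1
    rw [HasRingHomProperty.Spec_iff (P := @LocallyOfFiniteType), CommRingCat.hom_ofHom, RingHom.finiteType_algebraMap]
    infer_instance
  subst he
  exact ⟨MorphismProperty.comp_mem _ _ _ inferInstance (IsZariskiLocalAtSource.sigmaDesc (P := @FormallyUnramified) h1),
    MorphismProperty.comp_mem _ _ _ inferInstance (IsZariskiLocalAtSource.sigmaDesc (P := @LocallyOfFiniteType) h2)⟩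

theorem exists_iso [FormallyUnramified f] [LocallyOfFiniteType f] :
    ∃ (ι : Type u) (K : ι → Type u) (_ : ∀ i, Field (K i)) (_ : ∀ i, Algebra k (K i)),
      (∀ i, FiniteDimensional k (K i) ∧ Algebra.IsSeparable k (K i)) ∧
      ∃ e : X ≅ ∐ (fun i => Spec (CommRingCat.of (K i))),
        e.hom ≫ Limits.Sigma.desc (fun i => Spec.map (CommRingCat.ofHom (algebraMap k (K i)))) = f := by
  haveI hqf : LocallyQuasiFinite f := by
    rw [HasRingHomProperty.iff_appLE (P := @LocallyQuasiFinite)]
    intro U V e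
    have h1 : (f.appLE U V e).hom.FormallyUnramified := HasRingHomProperty.appLE (P := @FormallyUnramified) f inferInstance U V e
    have h2 : (f.appLE U V e).hom.FiniteType := HasRingHomProperty.appLE (P := @LocallyOfFiniteType) f inferInstance U V e
    algebraize [(f.appLE U V e).hom]
    exact (inferInstance : Algebra.QuasiFinite Γ(Spec (CommRingCat.of k), U) Γ(X, V))
  haveI : IsLocallyArtinian X := IsLocallyArtinian.of_locallyQuasiFinite f
  haveI : IsReduced X := by
    haveI : ∀ x : X, _root_.IsReduced (X.presheaf.stalk x) := fun x => by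
      obtain ⟨W, hW, hx, -⟩ := exists_isAffineOpen_mem_and_subset (X := X) (x := x) (U := ⊤) trivial
      obtain ⟨φ, hφ⟩ : ∃ φ, Spec.map φ = hW.fromSpec ≫ f := ⟨_, Spec.map_preimage _⟩
      have h1 : FormallyUnramified (Spec.map φ) := by
        rw [hφ]; exact MorphismProperty.comp_mem _ _ _ inferInstance ‹FormallyUnramified f›
      have h2 : LocallyOfFiniteType (Spec.map φ) := by
        rw [hφ]; exact MorphismProperty.comp_mem _ _ _ inferInstance ‹LocallyOfFiniteType f›
      rw [HasRingHomProperty.Spec_iff (P := @FormallyUnramified)] at h1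
      rw [HasRingHomProperty.Spec_iff (P := @LocallyOfFiniteType)] at h2
      letI : Algebra k Γ(X, W) := φ.hom.toAlgebra
      haveI : Algebra.FormallyUnramified k Γ(X, W) := h1
      haveI : Algebra.FiniteType k Γ(X, W) := h2
      haveI : _root_.IsReduced Γ(X, W) := Algebra.FormallyUnramified.isReduced_of_field k Γ(X, W)
      letI := TopCat.Presheaf.algebra_section_stalk X.presheaf (U := W) ⟨x, hx⟩
      haveI : IsLocalization.AtPrime (X.presheaf.stalk x) (hW.primeIdealOf ⟨x, hx⟩).asIdeal := hW.isLocalization_stalk ⟨x, hx⟩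
      exact isReduced_localizationPreserves (hW.primeIdealOf ⟨x, hx⟩).asIdeal.primeCompl _ inferInstance
    exact isReduced_of_isReduced_stalk X
  let U : X → X.Opens := fun x => ⟨{x}, isOpen_discrete _⟩
  haveI : ∀ x, Subsingleton (U x : Scheme.{u}) := fun x => ⟨fun a b => Subtype.ext (a.2.trans b.2.symm)⟩
  haveI : ∀ x, Nonempty (U x : Scheme.{u}) := fun x => ⟨⟨x, rfl⟩⟩
  haveI : ∀ x, IsReduced (U x : Scheme.{u}) := fun x => isReduced_of_isOpenImmersion (U x).ι
  haveI : ∀ x, IsIntegral (U x : Scheme.{u}) := fun x => (isIntegral_iff_irreducibleSpace_and_isReduced _).mpr ⟨⟨inferInstance⟩, inferInstance⟩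
  letI : ∀ x, Field Γ((U x : Scheme.{u}), ⊤) := fun x => (isField_of_isIntegral_of_subsingleton _).toField
  have hφ : ∀ x, ∃ φ, Spec.map φ = (U x : Scheme.{u}).isoSpec.inv ≫ (U x).ι ≫ f := fun x => ⟨_, Spec.map_preimage _⟩
  choose φ hφ using hφ
  letI : ∀ x, Algebra k Γ((U x : Scheme.{u}), ⊤) := fun x => (φ x).hom.toAlgebra
  refine ⟨X, fun x => Γ((U x : Scheme.{u}), ⊤), inferInstance, inferInstance, fun x => ?_, ?_⟩
  · have h1 : FormallyUnramified (Spec.map (φ x)) := by
      rw [hφ]; exact MorphismProperty.comp_mem _ _ _ inferInstance (MorphismProperty.comp_mem _ _ _ inferInstance ‹FormallyUnramified f›)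
    have h2 : LocallyOfFiniteType (Spec.map (φ x)) := by
      rw [hφ]; exact MorphismProperty.comp_mem _ _ _ inferInstance (MorphismProperty.comp_mem _ _ _ inferInstance ‹LocallyOfFiniteType f›)
    rw [HasRingHomProperty.Spec_iff (P := @FormallyUnramified)] at h1
    rw [HasRingHomProperty.Spec_iff (P := @LocallyOfFiniteType)] at h2
    haveI : Algebra.FormallyUnramified k Γ((U x : Scheme.{u}), ⊤) := h1
    haveI : Algebra.FiniteType k Γ((U x : Scheme.{u}), ⊤) := h2
    exact ⟨Algebra.FormallyUnramified.finite_of_free _ _, Algebra.FormallyUnramified.isSeparable _ _⟩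
  let g : ∀ x, Spec (CommRingCat.of Γ((U x : Scheme.{u}), ⊤)) ⟶ X := fun x => (U x : Scheme.{u}).isoSpec.inv ≫ (U x).ι
  haveI : ∀ x, IsOpenImmersion (g x) := fun x => inferInstance
  have hr : ∀ x, (g x).opensRange = U x := fun x => by
    apply Opens.ext
    show Set.range ((U x : Scheme.{u}).isoSpec.inv ≫ (U x).ι) = _
    rw [Scheme.Hom.comp_base, TopCat.coe_comp, Set.range_comp,
      ((U x : Scheme.{u}).isoSpec.inv).surjective.range_eq, Set.image_univ, Scheme.Opens.range_ι]
  have hcol := nonempty_isColimit_cofanMk_of g (top_unique fun y _ => Opens.mem_iSup.2 ⟨y, by rw [hr]; rfl⟩) (fun a b hab => by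
    show Disjoint (g a).opensRange (g b).opensRange
    rw [hr, hr, disjoint_iff]
    refine eq_bot_iff.2 fun z hz => hab (hz.1.symm.trans hz.2))
  let e := hcol.some.coconePointUniqueUpToIso (coproductIsCoproduct _)
  refine ⟨e, ?_⟩
  apply hcol.some.hom_ext
  rintro ⟨x⟩
  have hx : g x ≫ e.hom = Limits.Sigma.ι (fun x => Spec (CommRingCat.of Γ((U x : Scheme.{u}), ⊤))) x :=
    hcol.some.comp_coconePointUniqueUpToIso_hom (coproductIsCoproduct _) ⟨x⟩
  show g x ≫ e.hom ≫ _ = g x ≫ f
  rw [← Category.assoc, hx, Limits.Sigma.ι_desc]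
  exact (hφ x).trans (Category.assoc _ _ _).symm

end UnramFieldLib
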